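import Groth.Agent.BranchLib.Local
import Mathlib.FieldTheory.PurelyInseparable.Basic
import Mathlib.RingTheory.Ideal.MinimalPrime.Basic
import Mathlib.RingTheory.Ideal.Operations
import Mathlib.SetTheory.Cardinal.Finite

/-! One branch means unibranch. -/

set_option autoImplicit false
set_option linter.style.haveILetI false
universe u

noncomputable section

namespace BranchLib

theorem isGeomUnibranch_of_isIntegrallyClosed (A : Type u) [CommRing A] [IsLocalRing A] [IsDomain A]
    [IsIntegrallyClosed A] : CAlg2.IsGeomUnibranch A := by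
  obtain ⟨χ, hχ, hχa, -, hχi⟩ := exists_toFrac (A := A) (FractionRing A)
  have hs : Function.Surjective (str (A := A)) := fun c => by
    obtain ⟨a, ha⟩ := IsIntegrallyClosed.algebraMap_eq_of_integral (hχi c)
    exact ⟨a, hχ (by rw [hχa, ha])⟩
  haveI : (nilradical A).IsPrime := by rw [nilradical_eq_bot]; exact Ideal.isPrime_bot
  haveI : IsDomain (CAlg2.red A) := (Ideal.Quotient.isDomain_iff_prime _).2 inferInstance
  refine ⟨⟨inferInstance, .of_surjective' str hs⟩, fun m' _ x => ⟨0, ?_⟩⟩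
  obtain ⟨c, rfl⟩ := Ideal.Quotient.mk_surjective x
  obtain ⟨a, rfl⟩ := hs c
  exact ⟨a, by rw [pow_zero, pow_one]; rfl⟩

theorem eq_nilradical_of_mem_minimalPrimes {A : Type u} [CommRing A] [(nilradical A).IsPrime] {p : Ideal A}
    (hp : p ∈ minimalPrimes A) : p = nilradical A :=
  have := hp.1.1
  le_antisymm (hp.2 ⟨inferInstance, bot_le⟩ (nilradical_le_prime p)) (nilradical_le_prime p)

theorem isDomain_red_of_isLocalRing_normRed (A : Type u) [CommRing A] [IsLocalRing A]
    (hfin : (minimalPrimes A).Finite) [IsLocalRing (CAlg2.normRed A)] : IsDomain (CAlg2.red A) := by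
  classical
  rw [Ideal.Quotient.isDomain_iff_prime]
  obtain ⟨⟨p, hp⟩⟩ : Nonempty (minimalPrimes A) :=
    Ideal.nonempty_minimalPrimes (I := (⊥ : Ideal A)) bot_ne_top
  haveI := hp.1.1
  by_contra hnp
  let t := hfin.toFinset.erase p
  have ht : ∀ q ∈ t, q ≠ p ∧ q ∈ minimalPrimes A := fun q hq =>
    ⟨(Finset.mem_erase.1 hq).1, hfin.mem_toFinset.1 (Finset.mem_erase.1 hq).2⟩
  have hnil : ∀ x : A, (∀ q ∈ minimalPrimes A, x ∈ q) → x ∈ nilradical A := fun x hx => by
    show x ∈ (⊥ : Ideal A).radical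
    rw [← Ideal.sInf_minimalPrimes, Ideal.mem_sInf]
    exact fun {q} hq => hx q hq
  obtain ⟨q₀, hq₀⟩ : t.Nonempty := Finset.nonempty_iff_ne_empty.2 fun he => hnp (by
    have hp1 : nilradical A = p := le_antisymm (nilradical_le_prime p) fun x hx => hnil x fun q hq => by
      by_contra hxq
      have : q ∈ t := Finset.mem_erase.2 ⟨fun h => hxq (h ▸ hx), hfin.mem_toFinset.2 hq⟩
      rw [he] at this
      exact Finset.notMem_empty q this
    rw [hp1]; infer_instance)
  have hpU : ¬ (p : Set A) ⊆ ⋃ q ∈ (↑t : Set (Ideal A)), (q : Set A) := fun hsub => by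
    obtain ⟨q, hq, hpq⟩ := (Ideal.subset_union_prime (f := id) q₀ q₀ (fun q hq _ _ => (ht q hq).2.1.1)).1 hsub
    have := (ht q hq).2.1.1
    exact (ht q hq).1 (le_antisymm ((ht q hq).2.2 ⟨hp.1.1, bot_le⟩ hpq) hpq)
  obtain ⟨a, hap, haq⟩ := Set.not_subset.1 hpU
  have hbE : ¬ t.inf id ≤ p := fun hle => by
    obtain ⟨q, hq, hqp⟩ := (Ideal.IsPrime.inf_le' hp.1.1).1 hle
    exact (ht q hq).1 (le_antisymm hqp (hp.2 ⟨(ht q hq).2.1.1, bot_le⟩ hqp))
  obtain ⟨b, hbq, hbp⟩ := SetLike.not_le_iff_exists.1 hbE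
  have hbq' : ∀ q ∈ t, b ∈ q := fun q hq => Finset.inf_le (f := id) hq hbq
  have hab : a * b ∈ nilradical A := hnil _ fun q hq => by
    by_cases h : q = p
    · exact h ▸ p.mul_mem_right _ hap
    · exact q.mul_mem_left _ (hbq' q (Finset.mem_erase.2 ⟨h, hfin.mem_toFinset.2 hq⟩))
  let π := Ideal.Quotient.mk (nilradical A)
  have hc : π (a + b) ∈ nonZeroDivisors (CAlg2.red A) := by
    refine mem_nonZeroDivisors_iff_right.2 fun y hy => ?_
    obtain ⟨y, rfl⟩ := Ideal.Quotient.mk_surjective y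
    rw [← map_mul, Ideal.Quotient.eq_zero_iff_mem] at hy
    refine Ideal.Quotient.eq_zero_iff_mem.2 (hnil y fun q hq => ?_)
    haveI := hq.1.1
    refine ((hq.1.1).mem_or_mem (nilradical_le_prime q hy)).resolve_right fun h => ?_
    by_cases hqp : q = p
    · subst hqp
      exact hbp (by simpa using q.sub_mem h hap)
    · have hqt : q ∈ t := Finset.mem_erase.2 ⟨hqp, hfin.mem_toFinset.2 hq⟩
      exact haq (Set.mem_biUnion (Finset.mem_coe.2 hqt) (by simpa using q.sub_mem h (hbq' q hqt)))
  let F := FractionRing (CAlg2.red A)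
  let g := algebraMap (CAlg2.red A) F
  obtain ⟨v, hv⟩ := isUnit_iff_exists_inv.1 (IsLocalization.map_units F ⟨π (a + b), hc⟩)
  have h0 : g (π a) * g (π b) = 0 := by
    rw [← map_mul, ← map_mul, Ideal.Quotient.eq_zero_iff_mem.2 hab, map_zero]
  have hv' : (g (π a) + g (π b)) * v = 1 := by rw [← map_add, ← map_add]; exact hv
  have he : (g (π a) * v) * (g (π a) * v) = g (π a) * v := by
    linear_combination (g (π a) * v) * hv' - (v * v) * h0
  have hint : IsIntegral (CAlg2.red A) (g (π a) * v) :=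
    ⟨Polynomial.X ^ 2 - Polynomial.X, Polynomial.monic_X_pow_sub (lt_of_le_of_lt Polynomial.degree_X_le (by decide)), by
      simp [pow_two, he]⟩
  let e : CAlg2.normRed A := ⟨g (π a) * v, hint⟩
  have hinj : Function.Injective g := IsFractionRing.injective _ _
  have hkill : ∀ x : A, g (π x) = 0 → x ∈ nilradical A := fun x hx => by
    rw [← map_zero g] at hx
    exact Ideal.Quotient.eq_zero_iff_mem.1 (hinj hx)
  rcases IsLocalRing.isUnit_or_isUnit_one_sub_self e with h | h
  · have h1 : e = 1 := h.mul_left_cancel (by rw [mul_one]; exact Subtype.ext he)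
    have h2 : g (π a) * v = 1 := congrArg Subtype.val h1
    exact hbp (nilradical_le_prime p (hkill b (by linear_combination (-g (π b)) * h2 + v * h0)))
  · have h1 : e = 0 := (h.mul_right_eq_zero).1 (by
      rw [sub_mul, one_mul, sub_eq_zero]; exact (Subtype.ext he).symm)
    have h2 : g (π a) * v = 0 := congrArg Subtype.val h1
    haveI := (ht q₀ hq₀).2.1.1
    exact haq (Set.mem_biUnion (Finset.mem_coe.2 hq₀)
      (nilradical_le_prime q₀ (hkill a (by linear_combination (g (π a) + g (π b)) * h2 - g (π a) * hv'))))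

theorem numBranches_eq_one_iff (A : Type u) [CommRing A] [IsLocalRing A] :
    Brnch.numBranches A = 1 ↔ CAlg2.IsUnibranch A := by
  unfold Brnch.numBranches
  constructor
  · intro h
    split_ifs at h with hfin
    · rw [ENat.card_eq_one_iff_unique] at h
      obtain ⟨hu⟩ := h
      haveI : IsLocalRing (CAlg2.normRed A) :=
        .of_unique_max_ideal ⟨hu.default.asIdeal, hu.default.isMaximal,
          fun I hI => congrArg MaximalSpectrum.asIdeal (hu.uniq ⟨I, hI⟩)⟩
      exact ⟨isDomain_red_of_isLocalRing_normRed A hfin, ‹_›⟩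
    · exact absurd h (by simp)
  · rintro ⟨hd, hl⟩
    haveI : (nilradical A).IsPrime := (Ideal.Quotient.isDomain_iff_prime _).1 hd
    rw [if_pos ((Set.finite_singleton (nilradical A)).subset fun p hp => eq_nilradical_of_mem_minimalPrimes hp),
      ENat.card_eq_one_iff_unique]
    haveI := hl
    exact ⟨⟨⟨⟨IsLocalRing.maximalIdeal _, inferInstance⟩⟩,
      fun m => MaximalSpectrum.ext (IsLocalRing.eq_maximalIdeal m.isMaximal)⟩⟩

theorem emb_equiv (A : Type u) [CommRing A] [IsLocalRing A] (m' : MaximalSpectrum (CAlg2.normRed A)) :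
    Nonempty (Brnch.Emb A m') ∧ (Subsingleton (Brnch.Emb A m') ↔
      ∀ x : CAlg2.normRed A ⧸ m'.asIdeal, ∃ n : ℕ,
        x ^ (ringExpChar (CAlg2.normRed A ⧸ m'.asIdeal)) ^ n ∈ (Brnch.toResidue A m').range) := by
  letI := Ideal.Quotient.field m'.asIdeal
  let f := Brnch.toResidue A m'
  have hint : f.IsIntegral := RingHom.IsIntegral.trans _ _
    (RingHom.IsIntegral.trans _ _ (RingHom.isIntegral_of_surjective _ Ideal.Quotient.mk_surjective)
      (algebraMap_isIntegral_iff.mpr inferInstance))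
    (RingHom.isIntegral_of_surjective _ Ideal.Quotient.mk_surjective)
  have hker : RingHom.ker f = IsLocalRing.maximalIdeal A := by
    refine IsLocalRing.eq_maximalIdeal ?_
    letI := f.toAlgebra
    haveI : Algebra.IsIntegral A (CAlg2.normRed A ⧸ m'.asIdeal) := ⟨hint⟩
    rw [RingHom.ker_eq_comap_bot]
    exact Ideal.isMaximal_comap_of_isIntegral_of_isMaximal (R := A) (⊥ : Ideal (CAlg2.normRed A ⧸ m'.asIdeal))
  let k := IsLocalRing.ResidueField A
  let L := CAlg2.normRed A ⧸ m'.asIdeal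
  letI : Algebra k L := (Ideal.Quotient.lift _ f (fun a ha => RingHom.mem_ker.1 (hker.ge ha)) : k →+* L).toAlgebra
  have hf : ∀ a, algebraMap k L (IsLocalRing.residue A a) = f a := fun a => rfl
  haveI : Algebra.IsIntegral k L := ⟨fun x => RingHom.IsIntegral.tower_top (IsLocalRing.residue A) (algebraMap k L)
    hint x⟩
  haveI : Algebra.IsAlgebraic k L := Algebra.IsIntegral.isAlgebraic
  let E : Brnch.Emb A m' ≃ (L →ₐ[k] AlgebraicClosure k) :=
    { toFun := fun σ => { σ.1 with
        commutes' := fun c => by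
          obtain ⟨a, rfl⟩ := IsLocalRing.residue_surjective c
          exact RingHom.congr_fun σ.2 a }
      invFun := fun s => ⟨s.toRingHom, RingHom.ext fun a => s.commutes (IsLocalRing.residue A a)⟩
      left_inv := fun σ => rfl
      right_inv := fun s => rfl }
  refine ⟨⟨E.symm (IsAlgClosed.lift)⟩, ?_⟩
  obtain ⟨q, hq⟩ := ExpChar.exists k
  haveI := hq
  haveI : ExpChar L q := expChar_of_injective_ringHom (algebraMap k L).injective q
  rw [ringExpChar.eq L q]
  trans IsPurelyInseparable k L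
  · rw [isPurelyInseparable_iff_finSepDegree_eq_one, Field.finSepDegree, E.subsingleton_congr,
      Nat.card_congr (Field.embEquivOfIsAlgClosed k L (AlgebraicClosure k)), Nat.card_eq_one_iff_unique]
    exact ⟨fun h => ⟨h, ⟨IsAlgClosed.lift⟩⟩, fun h => h.1⟩
  · rw [isPurelyInseparable_iff_pow_mem k q]
    constructor
    · intro h x
      obtain ⟨n, c, hc⟩ := h x
      obtain ⟨a, rfl⟩ := IsLocalRing.residue_surjective c
      exact ⟨n, a, (hf a).symm.trans hc⟩
    · intro h x
      obtain ⟨n, a, ha⟩ := h x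
      exact ⟨n, IsLocalRing.residue A a, (hf a).trans ha⟩

theorem numGeomBranches_eq_one_iff (A : Type u) [CommRing A] [IsLocalRing A] :
    Brnch.numGeomBranches A = 1 ↔ CAlg2.IsGeomUnibranch A := by
  have h1 := numBranches_eq_one_iff A
  unfold Brnch.numBranches at h1
  unfold Brnch.numGeomBranches
  constructor
  · intro h
    split_ifs at h with hfin
    · rw [ENat.card_eq_one_iff_unique] at h
      obtain ⟨hu⟩ := h
      haveI : ∀ m', Nonempty (Brnch.Emb A m') := fun m' => (emb_equiv A m').1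
      have hs : Subsingleton (MaximalSpectrum (CAlg2.normRed A)) := ⟨fun a b =>
        congrArg Sigma.fst (@Subsingleton.elim _ (hu.instSubsingleton) ⟨a, Classical.arbitrary _⟩ ⟨b, Classical.arbitrary _⟩)⟩
      rw [if_pos hfin, ENat.card_eq_one_iff_unique] at h1
      refine ⟨h1.1 ⟨⟨⟨hu.default.1⟩, fun a => hs.elim a _⟩⟩, fun M hM => ?_⟩
      refine (emb_equiv A ⟨M, hM⟩).2.1 ⟨fun s t => ?_⟩
      have := @Subsingleton.elim _ (hu.instSubsingleton) (⟨⟨M, hM⟩, s⟩ : Σ m, Brnch.Emb A m) ⟨⟨M, hM⟩, t⟩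
      exact eq_of_heq (Sigma.mk.inj_iff.1 this).2
    · exact absurd h (by simp)
  · rintro ⟨hu, hres⟩
    haveI : (nilradical A).IsPrime := (Ideal.Quotient.isDomain_iff_prime _).1 hu.1
    have hfin : (minimalPrimes A).Finite :=
      (Set.finite_singleton (nilradical A)).subset fun p hp => eq_nilradical_of_mem_minimalPrimes hp
    rw [if_pos hfin, ENat.card_eq_one_iff_unique]
    haveI := hu.2
    let M : MaximalSpectrum (CAlg2.normRed A) := ⟨IsLocalRing.maximalIdeal _, inferInstance⟩
    obtain ⟨s⟩ := (emb_equiv A M).1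
    haveI hsub : Subsingleton (Brnch.Emb A M) := (emb_equiv A M).2.2 (@hres M.asIdeal M.isMaximal)
    exact ⟨⟨⟨⟨M, s⟩⟩, fun ⟨a, t⟩ => by
      obtain rfl : a = M := MaximalSpectrum.ext (IsLocalRing.eq_maximalIdeal a.isMaximal)
      exact congrArg (Sigma.mk M) (hsub.elim _ _)⟩⟩

end BranchLib
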