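import Mathlib.Topology.Instances.ENat
import Mathlib.Topology.Algebra.InfiniteSum.ENNReal
import Mathlib.Topology.Instances.ENNReal.ENatENNReal

/-! # Cardinality of sigma types as sums in `ℕ∞` -/

set_option autoImplicit false

universe u v

namespace BranchLib

theorem enat_card_sigma {α : Type u} (β : α → Type v) :
    ENat.card (Σ a, β a) = ∑' a, ENat.card (β a) := by
  have hsum : HasSum (fun a => ENat.card (β a)) (⨆ s : Finset α, ∑ a ∈ s, ENat.card (β a)) :=
    tendsto_atTop_iSup fun _ _ h => Finset.sum_le_sum_of_subset h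
  let toE : ℕ∞ →+ ENNReal :=
    { toFun := ENat.toENNReal, map_zero' := ENat.toENNReal_zero, map_add' := ENat.toENNReal_add }
  have h2 : HasSum (fun a => (ENat.card (β a) : ENNReal)) ((∑' a, ENat.card (β a) : ℕ∞) : ENNReal) :=
    hsum.summable.hasSum.map toE ENat.continuous_toENNReal
  apply ENat.toENNReal_strictMono.injective
  rw [← ENNReal.tsum_one, ENNReal.tsum_sigma' (fun _ : Σ a, β a => (1 : ENNReal)), ← h2.tsum_eq]
  exact tsum_congr fun a => ENNReal.tsum_one

end BranchLib
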