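import Groth.Prelude.Def_Brnch
import Mathlib.RingTheory.Localization.Integral
import Mathlib.RingTheory.IntegralClosure.IntegralRestrict
import Mathlib.RingTheory.Ideal.GoingUp
import Mathlib.RingTheory.Localization.Ideal
import Mathlib.FieldTheory.SeparableDegree

/-! # Branches of the local ring at a prime of a domain -/

set_option autoImplicit false

universe u

noncomputable section

namespace BranchLib

variable {A : Type u} [CommRing A] [IsDomain A] (K : Type u) [Field K] [Algebra A K] [IsFractionRing A K]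

lemma nilradical_eq_bot : nilradical A = ⊥ := nilradical_eq_zero A

/-- `A → A_red → A'`. -/
def str : A →+* CAlg2.normRed A :=
  (algebraMap (CAlg2.red A) (CAlg2.normRed A)).comp (Ideal.Quotient.mk (nilradical A))

lemma str_isIntegral : (str (A := A)).IsIntegral :=
  RingHom.IsIntegral.trans _ _ (RingHom.isIntegral_of_surjective _ Ideal.Quotient.mk_surjective)
    (fun c => Algebra.IsIntegral.isIntegral c)

/-- The normalization of the reduction inside the fraction field. -/
theorem exists_toFrac : ∃ χ : CAlg2.normRed A →+* K, Function.Injective χ ∧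
    (∀ a, χ (str a) = algebraMap A K a) ∧ (∀ z, IsIntegral A z → z ∈ Set.range χ) ∧
    ∀ c, IsIntegral A (χ c) := by
  haveI : (nilradical A).IsPrime := by rw [nilradical_eq_bot]; exact Ideal.isPrime_bot
  let π := Ideal.Quotient.mk (nilradical A)
  have hπ : Function.Bijective π := ⟨(injective_iff_map_eq_zero π).2 fun a ha => by
    rw [Ideal.Quotient.eq_zero_iff_mem, nilradical_eq_bot, Ideal.mem_bot] at ha
    exact ha, Ideal.Quotient.mk_surjective⟩
  let e : A ≃+* CAlg2.red A := RingEquiv.ofBijective π hπ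
  let E : K ≃+* FractionRing (CAlg2.red A) := IsFractionRing.ringEquivOfRingEquiv e
  have hE : ∀ a, E (algebraMap A K a) = algebraMap _ _ (π a) := fun a =>
    IsFractionRing.ringEquivOfRingEquiv_algebraMap e a
  let χ : CAlg2.normRed A →+* K :=
    E.symm.toRingHom.comp (integralClosure (CAlg2.red A) (FractionRing (CAlg2.red A))).val.toRingHom
  have hχ : ∀ a, χ (str a) = algebraMap A K a := fun a => E.symm_apply_eq.2 (hE a).symm
  refine ⟨χ, E.symm.injective.comp Subtype.val_injective, hχ, fun z hz => ?_, fun c => ?_⟩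
  · obtain ⟨p, hp, hpz⟩ := hz
    refine ⟨⟨E z, p.map π, hp.map π, ?_⟩, E.symm_apply_apply z⟩
    rw [Polynomial.eval₂_map, show (algebraMap (CAlg2.red A) (FractionRing (CAlg2.red A))).comp π =
        E.toRingHom.comp (algebraMap A K) from RingHom.ext fun a => (hE a).symm]
    exact (Polynomial.hom_eval₂ p (algebraMap A K) E.toRingHom z).symm.trans (by rw [hpz, map_zero])
  · obtain ⟨p, hp, hpc⟩ := str_isIntegral c
    refine ⟨p, hp, ?_⟩
    rw [← show χ.comp str = algebraMap A K from RingHom.ext hχ, ← Polynomial.hom_eval₂, hpc, map_zero]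

variable [IsLocalRing A] {R : Type u} [CommRing R] [Algebra R A] (m : Ideal R) [m.IsPrime]
  [IsLocalization.AtPrime A m] [Algebra R K] [IsScalarTower R A K] {B : Type u} [CommRing B] [Algebra R B]
  (ψ : B →+* K) (hψ : Function.Injective ψ) (hψR : ∀ r, ψ (algebraMap R B r) = algebraMap R K r)
  (hint : Algebra.IsIntegral R B) (hrange : ∀ z, IsIntegral R z → z ∈ Set.range ψ)

include hψR hint in
lemma isIntegral_psi (b : B) : IsIntegral A (ψ b) := by
  let f : B →ₐ[R] K := { ψ with commutes' := hψR }
  exact ((hint.isIntegral b).map f).tower_top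

include hψ hψR hint hrange

/-- The chart maps into the normalization of the local ring, which is a localization of it. -/
theorem exists_toNormRed : ∃ j : B →+* CAlg2.normRed A,
    (∀ r, j (algebraMap R B r) = str (algebraMap R A r)) ∧
    (letI := j.toAlgebra; IsLocalization (m.primeCompl.map (algebraMap R B)) (CAlg2.normRed A)) := by
  obtain ⟨χ, hχ, hχa, hχr, hχi⟩ := exists_toFrac (A := A) K
  choose j hj using fun b : B => hχr _ (isIntegral_psi K ψ hψR hint b)
  let jr : B →+* CAlg2.normRed A :=
    { toFun := j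
      map_one' := hχ (by rw [hj, map_one, map_one])
      map_mul' := fun a b => hχ (by rw [map_mul, hj, hj, hj, map_mul])
      map_zero' := hχ (by rw [hj, map_zero, map_zero])
      map_add' := fun a b => hχ (by rw [map_add, hj, hj, hj, map_add]) }
  have hjr : ∀ r, jr (algebraMap R B r) = str (algebraMap R A r) := fun r => hχ (by
    show χ (j _) = _
    rw [hj, hψR, hχa, ← IsScalarTower.algebraMap_apply R A K])
  refine ⟨jr, hjr, ?_⟩
  letI := jr.toAlgebra
  refine { map_units := ?_, surj := fun c => ?_, exists_of_eq := fun {a b} h => ?_ }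
  · rintro ⟨_, s, hs, rfl⟩
    show IsUnit (jr (algebraMap R B s))
    rw [hjr]
    exact (IsLocalization.map_units A (⟨s, hs⟩ : m.primeCompl)).map str
  · obtain ⟨⟨s, hs⟩, hsc⟩ :=
      (hχi c).exists_multiple_integral_of_isLocalization m.primeCompl (χ c)
    obtain ⟨b, hb⟩ := hrange _ hsc
    refine ⟨⟨b, ⟨algebraMap R B s, s, hs, rfl⟩⟩, hχ ?_⟩
    show χ (c * jr (algebraMap R B s)) = χ (j b)
    rw [hjr, map_mul, hχa, hj, hb, ← IsScalarTower.algebraMap_apply R A K, mul_comm]
    exact (Algebra.smul_def s (χ c)).symm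
  · refine ⟨1, ?_⟩
    have h2 := congrArg χ (show j a = j b from h)
    rw [hj, hj] at h2
    rw [hψ h2]

/-- Branches are the primes of the chart over the point, with their residue fields. -/
theorem exists_equiv : ∃ p : {Q : Ideal B // Q.IsPrime ∧ Q.comap (algebraMap R B) = m} ≃
      MaximalSpectrum (CAlg2.normRed A),
    ∀ (Q : {Q : Ideal B // Q.IsPrime ∧ Q.comap (algebraMap R B) = m}) (L : Type u) [Field L]
      [Algebra (IsLocalRing.ResidueField A) L] (φ : B →+* L),
      RingHom.ker φ = Q.1 → (∀ y, ∃ b t, φ t ≠ 0 ∧ y = φ b / φ t) →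
      (∀ r, algebraMap (IsLocalRing.ResidueField A) L (IsLocalRing.residue A (algebraMap R A r)) =
        φ (algebraMap R B r)) →
      Nonempty (Brnch.Emb A (p Q) ≃ Field.Emb (IsLocalRing.ResidueField A) L) := by
  obtain ⟨j, hj, hloc⟩ := exists_toNormRed (A := A) K m ψ hψ hψR hint hrange
  letI := j.toAlgebra
  haveI := hloc
  set S := m.primeCompl.map (algebraMap R B)
  have hcomapA : ∀ M : Ideal (CAlg2.normRed A), (M.comap j).comap (algebraMap R B) =
      (M.comap str).comap (algebraMap R A) := fun M => by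
    rw [Ideal.comap_comap, Ideal.comap_comap, RingHom.ext (f := j.comp (algebraMap R B)) (g := str.comp (algebraMap R A)) hj]
  have hmax : (IsLocalRing.maximalIdeal A).comap (algebraMap R A) = m :=
    IsLocalization.AtPrime.comap_maximalIdeal A m
  have hdisj : ∀ Q : {Q : Ideal B // Q.IsPrime ∧ Q.comap (algebraMap R B) = m}, Disjoint (S : Set B) (Q.1 : Set B) := by
    rintro ⟨Q, hQ, hQm⟩
    refine Set.disjoint_left.2 ?_
    rintro _ ⟨s, hs, rfl⟩ h
    exact hs (hQm ▸ h)
  have hfwd : ∀ Q : {Q : Ideal B // Q.IsPrime ∧ Q.comap (algebraMap R B) = m}, (Q.1.map j).IsMaximal := fun Q => by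
    have hp : (Q.1.map j).IsPrime :=
      IsLocalization.isPrime_of_isPrime_disjoint S (CAlg2.normRed A) Q.1 Q.2.1 (hdisj Q)
    letI := (str (A := A)).toAlgebra
    haveI : Algebra.IsIntegral A (CAlg2.normRed A) := ⟨str_isIntegral⟩
    refine Ideal.isMaximal_of_isIntegral_of_isMaximal_comap (R := A) _ ?_
    have h1 : ((Q.1.map j).comap str).comap (algebraMap R A) = m := by
      rw [← hcomapA]
      show ((Q.1.map (algebraMap B (CAlg2.normRed A))).under B).comap _ = m
      rw [IsLocalization.comap_map_of_isPrime_disjoint S (CAlg2.normRed A) Q.2.1 (hdisj Q)]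
      exact Q.2.2
    have h2 : (Q.1.map j).comap str = IsLocalRing.maximalIdeal A := by
      rw [← IsLocalization.map_under m.primeCompl A ((Q.1.map j).comap str), Ideal.under_def, h1,
        IsLocalization.AtPrime.map_eq_maximalIdeal m A]
    show ((Q.1.map j).comap str).IsMaximal
    rw [h2]; exact IsLocalRing.maximalIdeal.isMaximal A
  have hstr : ∀ M : MaximalSpectrum (CAlg2.normRed A), M.asIdeal.comap str = IsLocalRing.maximalIdeal A := fun M => by
    have := M.isMaximal
    letI := (str (A := A)).toAlgebra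
    haveI : Algebra.IsIntegral A (CAlg2.normRed A) := ⟨str_isIntegral⟩
    exact IsLocalRing.eq_maximalIdeal (Ideal.isMaximal_comap_of_isIntegral_of_isMaximal (R := A) M.asIdeal)
  let p : {Q : Ideal B // Q.IsPrime ∧ Q.comap (algebraMap R B) = m} ≃ MaximalSpectrum (CAlg2.normRed A) :=
    { toFun := fun Q => ⟨Q.1.map j, hfwd Q⟩
      invFun := fun M => ⟨M.asIdeal.comap j, by
        have := M.isMaximal
        exact ⟨Ideal.IsPrime.comap j, by rw [hcomapA, hstr, hmax]⟩⟩
      left_inv := fun Q => Subtype.ext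
        (IsLocalization.comap_map_of_isPrime_disjoint S (CAlg2.normRed A) Q.2.1 (hdisj Q))
      right_inv := fun M => MaximalSpectrum.ext (IsLocalization.map_under S (CAlg2.normRed A) M.asIdeal) }
  refine ⟨p, fun Q L _ _ φ hker hgen hcompat => ?_⟩
  have hunit : ∀ y : S, IsUnit (φ y) := fun y => isUnit_iff_ne_zero.2 fun h =>
    Set.disjoint_left.1 (hdisj Q) y.2 (hker ▸ RingHom.mem_ker.2 h)
  let ρ : CAlg2.normRed A →+* L := IsLocalization.lift hunit
  have hρj : ∀ b, ρ (j b) = φ b := fun b => IsLocalization.lift_eq hunit b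
  have hρ0 : ∀ c ∈ (p Q).asIdeal, ρ c = 0 := by
    intro c hc
    refine (Ideal.map_le_iff_le_comap.2 fun b hb => ?_ : Q.1.map j ≤ RingHom.ker ρ) hc
    show ρ (j b) = 0
    rw [hρj]; exact RingHom.mem_ker.1 (hker.symm ▸ hb)
  haveI := (p Q).isMaximal
  letI := Ideal.Quotient.field (p Q).asIdeal
  let ρbar : CAlg2.normRed A ⧸ (p Q).asIdeal →+* L := Ideal.Quotient.lift _ ρ hρ0
  have hsurj : Function.Surjective ρbar := fun y => by
    obtain ⟨b, t, -, rfl⟩ := hgen y
    refine ⟨Ideal.Quotient.mk _ (j b) / Ideal.Quotient.mk _ (j t), ?_⟩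
    rw [map_div₀]
    show ρ (j b) / ρ (j t) = _
    rw [hρj, hρj]
  let θ : CAlg2.normRed A ⧸ (p Q).asIdeal ≃+* L := RingEquiv.ofBijective ρbar ⟨ρbar.injective, hsurj⟩
  have hρs : ρ.comp str = (algebraMap (IsLocalRing.ResidueField A) L).comp (IsLocalRing.residue A) := by
    refine IsLocalization.ringHom_ext m.primeCompl (RingHom.ext fun r => ?_)
    show ρ (str (algebraMap R A r)) = algebraMap _ L (IsLocalRing.residue A (algebraMap R A r))
    rw [← hj, hρj, hcompat]
  have hθ : ∀ a, θ (Brnch.toResidue A (p Q) a) = algebraMap _ L (IsLocalRing.residue A a) := fun a =>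
    RingHom.congr_fun hρs a
  haveI : Algebra.IsAlgebraic (IsLocalRing.ResidueField A) L := ⟨fun y => by
    obtain ⟨c, rfl⟩ := hsurj y
    obtain ⟨c, rfl⟩ := Ideal.Quotient.mk_surjective c
    obtain ⟨q, hq, hqc⟩ := str_isIntegral c
    refine IsIntegral.isAlgebraic ⟨q.map (IsLocalRing.residue A), hq.map _, ?_⟩
    rw [Polynomial.eval₂_map, ← hρs]
    exact (Polynomial.hom_eval₂ q str ρ c).symm.trans (by rw [hqc, map_zero])⟩
  have key : Brnch.Emb A (p Q) ≃ (L →ₐ[IsLocalRing.ResidueField A] AlgebraicClosure (IsLocalRing.ResidueField A)) :=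
    { toFun := fun σ =>
        { σ.1.comp θ.symm.toRingHom with
          commutes' := fun k => by
            obtain ⟨a, rfl⟩ := IsLocalRing.residue_surjective k
            show σ.1 (θ.symm (algebraMap _ L (IsLocalRing.residue A a))) = _
            rw [← hθ a, θ.symm_apply_apply]
            exact RingHom.congr_fun σ.2 a }
      invFun := fun τ => ⟨τ.toRingHom.comp θ.toRingHom, RingHom.ext fun a => by
        show τ (θ (Brnch.toResidue A (p Q) a)) = _
        rw [hθ, τ.commutes]
        rfl⟩
      left_inv := fun σ => Subtype.ext (RingHom.ext fun c => congrArg σ.1 (θ.symm_apply_apply c))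
      right_inv := fun τ => AlgHom.ext fun y => congrArg τ (θ.apply_symm_apply y) }
  exact ⟨key.trans (Field.embEquivOfIsAlgClosed _ _ _).symm⟩

end BranchLib

end
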