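import Groth.Agent.BranchLib.One
import Groth.Agent.NorLocLib.Normalization
import Groth.Agent.S6294
import Groth.Agent.S6295
import Mathlib.RingTheory.Artinian.Ring

/-! The normalization of a reduced ring with finitely many minimal primes is locally a normal domain. -/

set_option autoImplicit false
set_option linter.style.haveILetI false
set_option maxHeartbeats 1000000
universe u

open scoped nonZeroDivisors

noncomputable section

namespace BranchLib

theorem fractionRing_data (R : Type u) [CommRing R] [IsReduced R] (hfin : (minimalPrimes R).Finite) :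
    IsArtinianRing (FractionRing R) ∧ IsReduced (FractionRing R) := by
  classical
  haveI := hfin.to_subtype
  obtain ⟨n, ⟨e⟩⟩ := Finite.exists_equiv_fin (minimalPrimes R)
  let q : Fin n → Ideal R := fun i => (e.symm i).1
  haveI : ∀ i, (q i).IsPrime := fun i => (e.symm i).2.1.1
  have hinj : Function.Injective q := Subtype.val_injective.comp e.symm.injective
  have hmin : ∀ P : Ideal R, P ∈ minimalPrimes R ↔ P ∈ Set.range q := fun P =>
    ⟨fun h => ⟨e ⟨P, h⟩, by simp [q]⟩, by rintro ⟨i, rfl⟩; exact (e.symm i).2⟩
  have hzd : ∀ x : R, x ∈ R⁰ ↔ ∀ i, x ∉ q i := fun x => by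
    rw [← not_iff_not, (Groth.Agent.S6295.result R).2.2 x]
    push Not
    exact ⟨fun ⟨p, hp, hx⟩ => by obtain ⟨i, rfl⟩ := (hmin p).1 hp; exact ⟨i, hx⟩,
      fun ⟨i, hx⟩ => ⟨q i, (hmin _).2 ⟨i, rfl⟩, hx⟩⟩
  haveI := Groth.Agent.S6294.result q hinj hmin hzd
  let e' : (∀ i, Localization.AtPrime (q i)) ≃+* FractionRing R :=
    (IsLocalization.algEquiv R⁰ (∀ i, Localization.AtPrime (q i)) (FractionRing R)).toRingEquiv
  haveI : ∀ i, IsArtinianRing (Localization.AtPrime (q i)) := fun i => by
    letI := ((Groth.Agent.S6295.result R).1 ⟨q i, inferInstance⟩ ((hmin _).2 ⟨i, rfl⟩)).toField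
    infer_instance
  exact ⟨e'.surjective.isArtinianRing, isReduced_localizationPreserves R⁰ _ inferInstance⟩

/-- Localisations of the normalization at primes are normal domains. -/
theorem normRed_atPrime (A : Type u) [CommRing A] (hfin : (minimalPrimes A).Finite)
    (n : Ideal (CAlg2.normRed A)) [n.IsPrime] :
    IsDomain (Localization.AtPrime n) ∧ IsIntegrallyClosed (Localization.AtPrime n) := by
  haveI : IsReduced (CAlg2.red A) :=
    (Ideal.isRadical_iff_quotient_reduced _).1 (Ideal.radical_isRadical (⊥ : Ideal A))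
  have hfin' : (minimalPrimes (CAlg2.red A)).Finite := by
    refine Set.Finite.of_finite_image (hfin.subset ?_)
      (Ideal.comap_injective_of_surjective _ Ideal.Quotient.mk_surjective).injOn
    rintro _ ⟨P, hP, rfl⟩
    haveI := hP.1.1
    refine ⟨⟨Ideal.IsPrime.comap _, bot_le⟩, fun Q hQ hle => ?_⟩
    haveI := hQ.1
    have h2 : (Q.map (Ideal.Quotient.mk (nilradical A))).IsPrime :=
      Ideal.map_isPrime_of_surjective Ideal.Quotient.mk_surjective (by rw [Ideal.mk_ker]; exact nilradical_le_prime _)
    have h3 := hP.2 ⟨h2, bot_le⟩ (Ideal.map_le_iff_le_comap.2 hle)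
    calc P.comap (Ideal.Quotient.mk (nilradical A)) ≤
          (Q.map (Ideal.Quotient.mk (nilradical A))).comap (Ideal.Quotient.mk _) := Ideal.comap_mono h3
      _ = Q := by
          rw [Ideal.comap_map_of_surjective _ Ideal.Quotient.mk_surjective, ← RingHom.ker_eq_comap_bot, Ideal.mk_ker,
            sup_eq_left.2 (nilradical_le_prime _)]
  obtain ⟨hart, hred⟩ := fractionRing_data (CAlg2.red A) hfin'
  haveI := hart
  haveI := hred
  exact (NorLocLib.splitClosed_integralClosure (A := CAlg2.red A)
    (GeomRedFibLib.splitClosed_of_isNormalRing (FractionRing (CAlg2.red A))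
      (NorLocLib.isNormalRing_of_reduced_artinian _))).isDomain_and_isIntegrallyClosed n.primeCompl
        (Localization.AtPrime n) (NorLocLib.eq_zero_or_one_of_isLocalRing _)

end BranchLib
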